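import Mathlib
import Cfsg.Agent.H613.KS.Defs

/-!
# S4577: the orbits of `y` on `D = 2 ^ 4` (helper484)

* `D4` : `y ^ 5` centralises `D`, `y` has no fixed points on `D#`, every orbit on `D#` has product 1 and generates `D`.
* `ph` : the parametrisation of `D` by `(ZMod 2) ^ 4` with basis `d, d ^ y, d ^ (y ^ 2), d ^ (y ^ 3)`.
-/

set_option autoImplicit false
set_option linter.unusedSectionVars false
set_option linter.style.haveILetI false

namespace Cfsg.Agent.H484.KS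

open Cfsg Cfsg.Agent.H613.KS

universe u

section

variable {S : Type u} [Group S] {D : Subgroup S}

theorem comm16 (h : E16 D) : ∀ a ∈ D, ∀ b ∈ D, a * b = b * a := by
  intro a ha b hb
  have h1 := h.inv a ha
  have h2 := h.inv b hb
  have h3 := h.inv (a * b) (D.mul_mem ha hb)
  have e1 : a⁻¹ = a := inv_eq_of_mul_eq_one_left h1
  have e2 : b⁻¹ = b := inv_eq_of_mul_eq_one_left h2
  have e3 : (a * b)⁻¹ = a * b := inv_eq_of_mul_eq_one_left h3
  rw [mul_inv_rev, e1, e2] at e3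
  exact e3.symm

theorem fin16 (h : E16 D) : Finite D := Nat.finite_of_card_ne_zero (by rw [h.card]; norm_num)

theorem cmem {y : S} (hy : Five D y) {d : S} (hd : d ∈ D) (n : ℕ) : y ^ n * d * (y ^ n)⁻¹ ∈ D := by
  induction n with
  | zero => simpa using hd
  | succ n ih =>
    have h1 : y ^ (n + 1) * d * (y ^ (n + 1))⁻¹ = y * (y ^ n * d * (y ^ n)⁻¹) * y⁻¹ := by rw [pow_succ']; group
    rw [h1, hy.norm]
    exact ih

theorem y5 (h : E16 D) {y : S} (hy : Five D y) : ∀ d ∈ D, y ^ 5 * d = d * y ^ 5 := by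
  intro d hd
  haveI := fin16 h
  haveI : Fintype D := Fintype.ofFinite D
  let f : D → D := fun d => ⟨y * d * y⁻¹, (hy.norm d).2 d.2⟩
  have hf : ∀ (n : ℕ) (d : D), ((f^[n] d : D) : S) = y ^ n * d * (y ^ n)⁻¹ := by
    intro n
    induction n with
    | zero => intro d; simp
    | succ n ih =>
      intro d
      rw [Function.iterate_succ_apply', pow_succ']
      change y * (f^[n] d : D) * y⁻¹ = _
      rw [ih]
      group
  obtain ⟨m, hm⟩ := hy.five
  have hy1 : y ^ 5 ^ m = 1 := by rw [← hm, pow_orderOf_eq_one]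
  have h1 : Function.IsPeriodicPt f (5 ^ m) ⟨d, hd⟩ := by
    apply Subtype.ext
    rw [hf, hy1]
    simp
  have h2 := h1.minimalPeriod_dvd
  have h3 : Function.minimalPeriod f ⟨d, hd⟩ ≤ 16 := by
    refine Function.minimalPeriod_le_card.trans ?_
    rw [← Nat.card_eq_fintype_card, h.card]
  obtain ⟨j, -, hj⟩ := (Nat.dvd_prime_pow (by norm_num : Nat.Prime 5)).1 h2
  have h4 : j ≤ 1 := by
    by_contra hcon
    push Not at hcon
    have : 5 ^ 2 ≤ 5 ^ j := Nat.pow_le_pow_right (by norm_num) hcon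
    rw [← hj] at this
    omega
  have h5 : Function.minimalPeriod f ⟨d, hd⟩ ∣ 5 := by
    rw [hj]
    calc 5 ^ j ∣ 5 ^ 1 := pow_dvd_pow 5 h4
      _ = 5 := by norm_num
  have h6 : Function.IsPeriodicPt f 5 ⟨d, hd⟩ := Function.isPeriodicPt_iff_minimalPeriod_dvd.2 h5
  have h7 := congrArg Subtype.val h6
  rw [hf] at h7
  exact mul_inv_eq_iff_eq_mul.1 h7

theorem fix1 (h : E16 D) {y : S} (hy : Five D y) {d : S} (hd : d ∈ D) (hfix : y * d = d * y) : d = 1 := by
  have hA : ∀ a ∈ D ⊓ Subgroup.centralizer {y}, y * a * y⁻¹ ∈ D ⊓ Subgroup.centralizer {y} := by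
    intro a ha
    have h1 := Subgroup.mem_centralizer_singleton_iff.1 ha.2
    have h2 : y * a * y⁻¹ = a := by rw [← h1, mul_inv_cancel_right]
    rw [h2]
    exact ha
  have hdm : d ∈ D ⊓ Subgroup.centralizer {y} := ⟨hd, Subgroup.mem_centralizer_singleton_iff.2 hfix.symm⟩
  rcases hy.irr _ inf_le_left hA with h1 | h1
  · rw [h1] at hdm
    exact hdm
  · by_contra hne
    have hall : ∀ a ∈ D, y * a = a * y := fun a ha => by
      rw [← h1] at ha
      exact (Subgroup.mem_centralizer_singleton_iff.1 ha.2).symm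
    rcases hy.irr (Subgroup.zpowers d) (by rwa [Subgroup.zpowers_le]) (by
      intro a ha
      rw [hall a ((Subgroup.zpowers_le.2 hd) ha), mul_inv_cancel_right]
      exact ha) with h2 | h2
    · exact hne (Subgroup.zpowers_eq_bot.1 h2)
    · have h3 := h.card
      rw [← h2, Nat.card_zpowers] at h3
      have h4 : orderOf d ∣ 2 := orderOf_dvd_of_pow_eq_one (by rw [pow_two, h.inv d hd])
      rw [h3] at h4
      omega

/-- the conjugates -/
def cj (y d : S) (n : ℕ) : S := y ^ n * d * (y ^ n)⁻¹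

theorem cj_zero (y d : S) : cj y d 0 = d := by simp [cj]

theorem y_cj (y d : S) (n : ℕ) : y * cj y d n * y⁻¹ = cj y d (n + 1) := by
  rw [cj, cj, pow_succ']; group

theorem cj_mem {y : S} (hy : Five D y) {d : S} (hd : d ∈ D) (n : ℕ) : cj y d n ∈ D := cmem hy hd n

theorem cj_five (h : E16 D) {y : S} (hy : Five D y) {d : S} (hd : d ∈ D) : cj y d 5 = d := by
  rw [cj, y5 h hy d hd, mul_inv_cancel_right]

theorem prod5 (h : E16 D) {y : S} (hy : Five D y) {d : S} (hd : d ∈ D) :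
    cj y d 0 * cj y d 1 * cj y d 2 * cj y d 3 * cj y d 4 = 1 := by
  have hm := fun n => cj_mem hy hd n
  have hc := comm16 h
  have hP : cj y d 0 * cj y d 1 * cj y d 2 * cj y d 3 * cj y d 4 ∈ D :=
    mul_mem (mul_mem (mul_mem (mul_mem (hm 0) (hm 1)) (hm 2)) (hm 3)) (hm 4)
  apply fix1 h hy hP
  have h1 : y * (cj y d 0 * cj y d 1 * cj y d 2 * cj y d 3 * cj y d 4) * y⁻¹ =
      cj y d 0 * cj y d 1 * cj y d 2 * cj y d 3 * cj y d 4 := by
    have h2 : y * (cj y d 0 * cj y d 1 * cj y d 2 * cj y d 3 * cj y d 4) * y⁻¹ =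
        (y * cj y d 0 * y⁻¹) * (y * cj y d 1 * y⁻¹) * (y * cj y d 2 * y⁻¹) * (y * cj y d 3 * y⁻¹) *
          (y * cj y d 4 * y⁻¹) := by group
    rw [h2, y_cj, y_cj, y_cj, y_cj, y_cj]
    have h3 : cj y d (4 + 1) = cj y d 0 := by rw [cj_zero]; exact cj_five h hy hd
    rw [h3]
    have h4 : cj y d (0 + 1) * cj y d (1 + 1) * cj y d (2 + 1) * cj y d (3 + 1) ∈ D :=
      mul_mem (mul_mem (mul_mem (hm _) (hm _)) (hm _)) (hm _)
    rw [hc _ h4 _ (hm 0)]
    simp only [mul_assoc, zero_add]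
  exact mul_inv_eq_iff_eq_mul.1 h1

theorem cj4 (h : E16 D) {y : S} (hy : Five D y) {d : S} (hd : d ∈ D) :
    cj y d 4 = cj y d 0 * cj y d 1 * cj y d 2 * cj y d 3 := by
  have h1 := prod5 h hy hd
  have hm := fun n => cj_mem hy hd n
  have h2 : cj y d 4 * cj y d 4 = 1 := h.inv _ (hm 4)
  exact (mul_right_cancel (h2.trans h1.symm))

theorem closure5 (_h : E16 D) {y : S} (hy : Five D y) {d : S} (hd : d ∈ D) (hd1 : d ≠ 1) :
    Subgroup.closure {e : S | ∃ i : ℕ, e = cj y d i} = D := by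
  have hle : Subgroup.closure {e : S | ∃ i : ℕ, e = cj y d i} ≤ D := by
    rw [Subgroup.closure_le]
    rintro _ ⟨i, rfl⟩
    exact cj_mem hy hd i
  have hinv : ∀ a ∈ Subgroup.closure {e : S | ∃ i : ℕ, e = cj y d i},
      y * a * y⁻¹ ∈ Subgroup.closure {e : S | ∃ i : ℕ, e = cj y d i} := by
    intro a ha
    have h1 : Subgroup.closure {e : S | ∃ i : ℕ, e = cj y d i} ≤
        (Subgroup.closure {e : S | ∃ i : ℕ, e = cj y d i}).comap (MulAut.conj y).toMonoidHom := by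
      rw [Subgroup.closure_le]
      rintro _ ⟨i, rfl⟩
      change y * cj y d i * y⁻¹ ∈ Subgroup.closure {e : S | ∃ i : ℕ, e = cj y d i}
      rw [y_cj]
      exact Subgroup.subset_closure ⟨i + 1, rfl⟩
    exact h1 ha
  rcases hy.irr _ hle hinv with h1 | h1
  · exfalso
    apply hd1
    have h2 : d ∈ Subgroup.closure {e : S | ∃ i : ℕ, e = cj y d i} :=
      Subgroup.subset_closure ⟨0, (cj_zero y d).symm⟩
    rw [h1] at h2
    exact h2
  · exact h1

/-- D4 -/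
theorem D4 [Finite S] (h : E16 D) {y : S} (hy : Five D y) :
    (∀ d ∈ D, y ^ 5 * d = d * y ^ 5) ∧ (∀ d ∈ D, d ≠ 1 → y * d ≠ d * y) ∧
    (∀ d ∈ D, d * (y * d * y⁻¹) * (y ^ 2 * d * (y ^ 2)⁻¹) * (y ^ 3 * d * (y ^ 3)⁻¹) * (y ^ 4 * d * (y ^ 4)⁻¹) = 1) ∧
    (∀ d ∈ D, d ≠ 1 → Subgroup.closure {e : S | ∃ i : ℕ, e = y ^ i * d * (y ^ i)⁻¹} = D) := by
  refine ⟨y5 h hy, fun d hd h1 h2 => h1 (fix1 h hy hd h2), fun d hd => ?_, fun d hd h1 => closure5 h hy hd h1⟩
  have h1 := prod5 h hy hd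
  simp only [cj, pow_zero, one_mul, inv_one, mul_one, pow_one] at h1
  exact h1

/-! ### parametrisation -/

abbrev P4 := ZMod 2 × ZMod 2 × ZMod 2 × ZMod 2

def pw (e : S) (a : ZMod 2) : S := e ^ a.val

theorem pw_add {e : S} (he : e * e = 1) (a b : ZMod 2) : pw e (a + b) = pw e a * pw e b := by
  fin_cases a <;> fin_cases b
  · change e ^ 0 = e ^ 0 * e ^ 0
    simp
  · change e ^ 1 = e ^ 0 * e ^ 1
    simp
  · change e ^ 1 = e ^ 1 * e ^ 0
    simp
  · change e ^ 0 = e ^ 1 * e ^ 1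
    rw [pow_zero, pow_one, he]

theorem pw_mem {e : S} (he : e ∈ D) (a : ZMod 2) : pw e a ∈ D := pow_mem he _

/-- the parametrisation -/
def ph (y d : S) (q : P4) : S := pw (cj y d 0) q.1 * pw (cj y d 1) q.2.1 * pw (cj y d 2) q.2.2.1 * pw (cj y d 3) q.2.2.2

theorem ph_mem {y : S} (hy : Five D y) {d : S} (hd : d ∈ D) (q : P4) : ph y d q ∈ D :=
  mul_mem (mul_mem (mul_mem (pw_mem (cj_mem hy hd 0) _) (pw_mem (cj_mem hy hd 1) _)) (pw_mem (cj_mem hy hd 2) _))
    (pw_mem (cj_mem hy hd 3) _)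

theorem ph_add (h : E16 D) {y : S} (hy : Five D y) {d : S} (hd : d ∈ D) (q r : P4) :
    ph y d (q + r) = ph y d q * ph y d r := by
  have hc := comm16 h
  have hm := fun n (a : ZMod 2) => pw_mem (cj_mem hy hd n) a
  simp only [ph, Prod.fst_add, Prod.snd_add]
  rw [pw_add (h.inv _ (cj_mem hy hd 0)), pw_add (h.inv _ (cj_mem hy hd 1)), pw_add (h.inv _ (cj_mem hy hd 2)),
    pw_add (h.inv _ (cj_mem hy hd 3))]
  have m0 := hm 0 q.1
  have n0 := hm 0 r.1
  have m1 := hm 1 q.2.1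
  have n1 := hm 1 r.2.1
  have m2 := hm 2 q.2.2.1
  have n2 := hm 2 r.2.2.1
  have m3 := hm 3 q.2.2.2
  have n3 := hm 3 r.2.2.2
  generalize pw (cj y d 0) q.1 = a0 at *
  generalize pw (cj y d 0) r.1 = b0 at *
  generalize pw (cj y d 1) q.2.1 = a1 at *
  generalize pw (cj y d 1) r.2.1 = b1 at *
  generalize pw (cj y d 2) q.2.2.1 = a2 at *
  generalize pw (cj y d 2) r.2.2.1 = b2 at *
  generalize pw (cj y d 3) q.2.2.2 = a3 at *
  generalize pw (cj y d 3) r.2.2.2 = b3 at *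
  letI : CommGroup D := { (inferInstance : Group D) with mul_comm := fun a b => Subtype.ext (hc a a.2 b b.2) }
  have key : (⟨a0, m0⟩ * ⟨b0, n0⟩ * (⟨a1, m1⟩ * ⟨b1, n1⟩) * (⟨a2, m2⟩ * ⟨b2, n2⟩) * (⟨a3, m3⟩ * ⟨b3, n3⟩) : D) =
      (⟨a0, m0⟩ * ⟨a1, m1⟩ * ⟨a2, m2⟩ * ⟨a3, m3⟩) * (⟨b0, n0⟩ * ⟨b1, n1⟩ * ⟨b2, n2⟩ * ⟨b3, n3⟩) := by
    rw [mul_mul_mul_comm (⟨a0, m0⟩ : D), mul_mul_mul_comm (⟨a0, m0⟩ * ⟨a1, m1⟩ : D),
      mul_mul_mul_comm (⟨a0, m0⟩ * ⟨a1, m1⟩ * ⟨a2, m2⟩ : D)]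
  exact congrArg Subtype.val key

theorem ph_zero (y d : S) : ph y d 0 = 1 := by
  change pw _ 0 * pw _ 0 * pw _ 0 * pw _ 0 = 1
  simp [pw]

theorem ph_surj (h : E16 D) {y : S} (hy : Five D y) {d : S} (hd : d ∈ D) (hd1 : d ≠ 1) {e : S} (he : e ∈ D) :
    ∃ q, ph y d q = e := by
  have hinv : ∀ q : P4, -q = q := by decide
  let R : Subgroup S :=
    { carrier := Set.range (ph y d)
      one_mem' := ⟨0, ph_zero y d⟩
      mul_mem' := by
        rintro _ _ ⟨q, rfl⟩ ⟨r, rfl⟩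
        exact ⟨q + r, ph_add h hy hd q r⟩
      inv_mem' := by
        rintro _ ⟨q, rfl⟩
        refine ⟨q, ?_⟩
        rw [eq_inv_iff_mul_eq_one]
        exact h.inv _ (ph_mem hy hd q) }
  have h0 : cj y d 0 ∈ R := ⟨(1, 0, 0, 0), by simp [ph, pw, ZMod.val_one]⟩
  have h1 : cj y d 1 ∈ R := ⟨(0, 1, 0, 0), by simp [ph, pw, ZMod.val_one]⟩
  have h2 : cj y d 2 ∈ R := ⟨(0, 0, 1, 0), by simp [ph, pw, ZMod.val_one]⟩
  have h3 : cj y d 3 ∈ R := ⟨(0, 0, 0, 1), by simp [ph, pw, ZMod.val_one]⟩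
  have h4 : cj y d 4 ∈ R := by
    rw [cj4 h hy hd]
    exact mul_mem (mul_mem (mul_mem h0 h1) h2) h3
  have hall : ∀ i, cj y d i ∈ R := by
    intro i
    have hper : ∀ n, cj y d (n + 5) = cj y d n := by
      intro n
      have e1 : cj y d (n + 5) = y ^ n * cj y d 5 * (y ^ n)⁻¹ := by
        rw [cj, cj, pow_add]; group
      rw [e1, cj_five h hy hd]
      rfl
    induction i using Nat.strong_induction_on with
    | _ i ih =>
      by_cases hi : i < 5
      · interval_cases i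
        · exact h0
        · exact h1
        · exact h2
        · exact h3
        · exact h4
      · obtain ⟨n, rfl⟩ := Nat.exists_eq_add_of_le' (not_lt.1 hi)
        rw [hper]
        exact ih n (by omega)
  have hle : D ≤ R := by
    rw [← closure5 h hy hd hd1, Subgroup.closure_le]
    rintro _ ⟨i, rfl⟩
    exact hall i
  exact hle he

theorem ph_inj (h : E16 D) {y : S} (hy : Five D y) {d : S} (hd : d ∈ D) (hd1 : d ≠ 1) :
    Function.Injective (ph y d) := by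
  haveI := fin16 h
  let f : P4 → D := fun q => ⟨ph y d q, ph_mem hy hd q⟩
  have hf : Function.Surjective f := by
    rintro ⟨e, he⟩
    obtain ⟨q, hq⟩ := ph_surj h hy hd hd1 he
    exact ⟨q, Subtype.ext hq⟩
  have hc : Nat.card P4 = Nat.card D := by
    rw [h.card, Nat.card_eq_fintype_card]
    rfl
  have hb : Function.Bijective f := (Nat.bijective_iff_surjective_and_card f).2 ⟨hf, hc⟩
  intro q r hqr
  exact hb.1 (Subtype.ext hqr)

end

end Cfsg.Agent.H484.KS
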