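import Mathlib
import Cfsg.Agent.H484.KS.Orb

/-!
# S4577: the trace formula (helper484)
-/

set_option autoImplicit false
set_option linter.unusedSectionVars false
set_option linter.style.haveILetI false

namespace Cfsg.Agent.H484.KS

open Cfsg Cfsg.Agent.H613.KS Module

universe u

/-! ### combinatorics of `P4` -/

/-- the pairing -/
def dot (p q : P4) : ZMod 2 := p.1 * q.1 + p.2.1 * q.2.1 + p.2.2.1 * q.2.2.1 + p.2.2.2 * q.2.2.2

/-- the action of `y` on the characters -/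
def sh (p : P4) : P4 := (p.1 + p.2.1 + p.2.2.1 + p.2.2.2, p.1, p.2.1, p.2.2.1)

/-- the action of `y` on `D` -/
def shq (q : P4) : P4 := (q.2.2.2, q.1 + q.2.2.2, q.2.1 + q.2.2.2, q.2.2.1 + q.2.2.2)

def b1 : P4 := (1, 0, 0, 0)

/-- the classes of characters: 0; four signs; two adjacent signs; two non-adjacent signs -/
def cl (p : P4) : Fin 4 :=
  if p = 0 then 0 else if ∃ i : ℕ, i < 5 ∧ sh^[i] (1, 1, 1, 1) = p then 1 else if ∃ i : ℕ, i < 5 ∧ sh^[i] (1, 1, 0, 0) = p then 2 else 3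

/-- the class paired with the class of `q` -/
def tq (q : P4) : Fin 4 :=
  if q = 0 then 0 else if ∃ i : ℕ, i < 5 ∧ shq^[i] b1 = q then 1 else if ∃ i : ℕ, i < 5 ∧ shq^[i] (1, 1, 0, 0) = q then 3 else 2

def rp : Fin 4 → P4
  | 0 => 0
  | 1 => (1, 1, 1, 1)
  | 2 => (1, 1, 0, 0)
  | 3 => (1, 0, 1, 0)

theorem dec_rp : ∀ p : P4, ∃ i < 5, sh^[i] (rp (cl p)) = p := by decide +kernel

theorem dec_sh5 : ∀ p : P4, sh^[5] p = p := by decide +kernel

def TT (q : P4) : Finset P4 := Finset.univ.filter fun p => dot p q = 1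

theorem dec_N : ∀ q : P4, q ≠ 0 → ∀ c : Fin 4, ((TT q).filter fun p => cl p = c).card =
    if c = 0 then 0 else if c = tq q then 4 else 2 := by decide +kernel

theorem dec_all : ∀ c : Fin 4, ((Finset.univ : Finset P4).filter fun p => cl p = c).card = if c = 0 then 1 else 5 := by
  decide +kernel

theorem dec_t1 : tq b1 = 1 := by decide +kernel

theorem dec_o : ∀ q r : P4, q ≠ 0 → tq q = tq r → ∃ i < 5, shq^[i] q = r := by decide +kernel

theorem dec_t0 : ∀ q : P4, q ≠ 0 → tq q ≠ 0 := by decide +kernel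

theorem dec_cl : ∀ p : P4, p ≠ 0 → cl p ≠ 0 := by decide +kernel

theorem sum_cl (w : Fin 4 → ℕ) (T : Finset P4) :
    ∑ p ∈ T, w (cl p) = ∑ c : Fin 4, (T.filter fun p => cl p = c).card * w c := by
  rw [← Finset.sum_fiberwise T cl (fun p => w (cl p))]
  refine Finset.sum_congr rfl fun c _ => ?_
  rw [Finset.sum_congr rfl (g := fun _ => w c) (fun p hp => by rw [(Finset.mem_filter.1 hp).2]), Finset.sum_const,
    smul_eq_mul]

theorem sum_all (w : Fin 4 → ℕ) : ∑ p : P4, w (cl p) = w 0 + 5 * (w 1 + w 2 + w 3) := by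
  rw [sum_cl, Fin.sum_univ_four, dec_all, dec_all, dec_all, dec_all]
  simp
  ring

theorem sum_TT (w : Fin 4 → ℕ) {q : P4} (hq : q ≠ 0) : ∑ p ∈ TT q, w (cl p) = 2 * (w 1 + w 2 + w 3) + 2 * w (tq q) := by
  rw [sum_cl, Fin.sum_univ_four, dec_N q hq, dec_N q hq, dec_N q hq, dec_N q hq]
  have h0 := dec_t0 q hq
  generalize tq q = c at *
  fin_cases c
  · exact absurd rfl h0
  · simp; ring
  · simp; ring
  · simp; ring

/-! ### linear algebra -/

section lin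

variable {k : Type*} [Field k] {V : Type*} [AddCommGroup V] [Module k V]

/-- eigenspaces of involutions -/
def Eg (f : Module.End k V) (a : ZMod 2) : Submodule k V := LinearMap.ker (f - algebraMap k _ ((-1) ^ a.val))

theorem mem_Eg {f : Module.End k V} {a : ZMod 2} {v : V} : v ∈ Eg f a ↔ f v = ((-1 : k) ^ a.val) • v := by
  rw [Eg, LinearMap.mem_ker, LinearMap.sub_apply, sub_eq_zero]
  rfl

variable [FiniteDimensional k V]

theorem split (h2 : (2 : k) ≠ 0) {f : Module.End k V} (hf : f * f = 1) (U : Submodule k V) (hU : ∀ u ∈ U, f u ∈ U) :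
    finrank k U = ∑ a : ZMod 2, finrank k ↥(U ⊓ Eg f a) := by
  have e0 : ∀ v, v ∈ Eg f 0 ↔ f v = v := fun v => by rw [mem_Eg]; simp
  have e1 : ∀ v, v ∈ Eg f 1 ↔ f v = -v := fun v => by rw [mem_Eg, ZMod.val_one]; simp
  have hs : (U ⊓ Eg f 0) ⊔ (U ⊓ Eg f 1) = U := by
    apply le_antisymm (sup_le inf_le_left inf_le_left)
    intro u hu
    have hff : f (f u) = u := by
      have := congrArg (fun g : Module.End k V => g u) hf
      exact this
    have h3 : u = (2 : k)⁻¹ • (u + f u) + (2 : k)⁻¹ • (u - f u) := by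
      rw [← smul_add]
      have : u + f u + (u - f u) = (2 : k) • u := by rw [two_smul]; abel
      rw [this, smul_smul, inv_mul_cancel₀ h2, one_smul]
    rw [h3]
    refine Submodule.add_mem_sup ⟨U.smul_mem _ (U.add_mem hu (hU u hu)), ?_⟩ ⟨U.smul_mem _ (U.sub_mem hu (hU u hu)), ?_⟩
    · rw [SetLike.mem_coe, e0, map_smul, map_add, hff, add_comm]
    · rw [SetLike.mem_coe, e1, map_smul, map_sub, hff, ← smul_neg, neg_sub]
  have hi : (U ⊓ Eg f 0) ⊓ (U ⊓ Eg f 1) = ⊥ := by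
    rw [eq_bot_iff]
    rintro v ⟨⟨-, h3⟩, ⟨-, h4⟩⟩
    have h3' := (e0 v).1 h3
    have h4' := (e1 v).1 h4
    rw [h3'] at h4'
    have h5 : (2 : k) • v = 0 := by rw [two_smul]; nth_rewrite 2 [h4']; exact add_neg_cancel v
    exact (smul_eq_zero.1 h5).resolve_left h2
  have h3 := Submodule.finrank_sup_add_finrank_inf_eq (U ⊓ Eg f 0) (U ⊓ Eg f 1)
  rw [hs, hi, finrank_bot, add_zero] at h3
  rw [h3]
  exact (Fin.sum_univ_two (fun a : Fin 2 => finrank k ↥(U ⊓ Eg f (a : ZMod 2)))).symm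

theorem inv_inf {f g : Module.End k V} (hfg : f * g = g * f) {U : Submodule k V} (hU : ∀ u ∈ U, g u ∈ U) (a : ZMod 2) :
    ∀ u ∈ U ⊓ Eg f a, g u ∈ U ⊓ Eg f a := by
  rintro u ⟨hu, hu'⟩
  refine ⟨hU u hu, ?_⟩
  rw [SetLike.mem_coe, mem_Eg] at hu' ⊢
  have : f (g u) = g (f u) := congrArg (fun h : Module.End k V => h u) hfg
  rw [this, hu', map_smul]

/-- simultaneous eigenspaces of four commuting involutions -/
def Vp (f0 f1 f2 f3 : Module.End k V) (p : P4) : Submodule k V := Eg f0 p.1 ⊓ Eg f1 p.2.1 ⊓ Eg f2 p.2.2.1 ⊓ Eg f3 p.2.2.2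

theorem split4 (h2 : (2 : k) ≠ 0) {f0 f1 f2 f3 : Module.End k V} (h00 : f0 * f0 = 1) (h11 : f1 * f1 = 1)
    (h22 : f2 * f2 = 1) (h33 : f3 * f3 = 1) (h01 : f0 * f1 = f1 * f0) (h02 : f0 * f2 = f2 * f0)
    (h03 : f0 * f3 = f3 * f0) (h12 : f1 * f2 = f2 * f1) (h13 : f1 * f3 = f3 * f1) (h23 : f2 * f3 = f3 * f2)
    (U : Submodule k V) (u0 : ∀ u ∈ U, f0 u ∈ U) (u1 : ∀ u ∈ U, f1 u ∈ U) (u2 : ∀ u ∈ U, f2 u ∈ U)
    (u3 : ∀ u ∈ U, f3 u ∈ U) : finrank k U = ∑ p : P4, finrank k ↥(U ⊓ Vp f0 f1 f2 f3 p) := by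
  rw [Fintype.sum_prod_type, split h2 h00 U u0]
  refine Finset.sum_congr rfl fun a _ => ?_
  rw [Fintype.sum_prod_type, split h2 h11 _ (inv_inf h01 u1 a)]
  refine Finset.sum_congr rfl fun b _ => ?_
  rw [Fintype.sum_prod_type, split h2 h22 _ (inv_inf h12 (inv_inf h02 u2 a) b)]
  refine Finset.sum_congr rfl fun c _ => ?_
  rw [split h2 h33 _ (inv_inf h23 (inv_inf h13 (inv_inf h03 u3 a) b) c)]
  refine Finset.sum_congr rfl fun d _ => ?_
  have e : U ⊓ Eg f0 a ⊓ Eg f1 b ⊓ Eg f2 c ⊓ Eg f3 d = U ⊓ Vp f0 f1 f2 f3 (a, b, c, d) := by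
    simp only [Vp, inf_assoc]
  rw [e]

end lin

/-! ### the group -/

section grp

variable {S : Type u} [Group S] {D : Subgroup S} (h : E16 D) {y : S} (hy : Five D y) {d : S} (hd : d ∈ D)

theorem shq_y (q : P4) : y * ph y d q * y⁻¹ = pw (cj y d 1) q.1 * pw (cj y d 2) q.2.1 * pw (cj y d 3) q.2.2.1 *
    pw (cj y d 4) q.2.2.2 := by
  have e : ∀ (n : ℕ) (a : ZMod 2), y * pw (cj y d n) a * y⁻¹ = pw (cj y d (n + 1)) a := by
    intro n a
    rw [pw, pw, ← y_cj, conj_pow]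
  have e2 : y * ph y d q * y⁻¹ = (y * pw (cj y d 0) q.1 * y⁻¹) * (y * pw (cj y d 1) q.2.1 * y⁻¹) *
      (y * pw (cj y d 2) q.2.2.1 * y⁻¹) * (y * pw (cj y d 3) q.2.2.2 * y⁻¹) := by
    rw [ph]; group
  rw [e2, e, e, e, e]

include h hy hd

theorem y_ph (q : P4) : y * ph y d q * y⁻¹ = ph y d (shq q) := by
  have e4 : pw (cj y d 4) q.2.2.2 = ph y d (q.2.2.2, q.2.2.2, q.2.2.2, q.2.2.2) := by
    rw [cj4 h hy hd]
    generalize q.2.2.2 = a
    fin_cases a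
    · change (_ : S) ^ 0 = _ ^ 0 * _ ^ 0 * _ ^ 0 * _ ^ 0
      simp
    · change (_ : S) ^ 1 = _ ^ 1 * _ ^ 1 * _ ^ 1 * _ ^ 1
      simp
  have e3 : pw (cj y d 1) q.1 * pw (cj y d 2) q.2.1 * pw (cj y d 3) q.2.2.1 = ph y d (0, q.1, q.2.1, q.2.2.1) := by
    rw [ph]
    change _ = _ ^ 0 * _ * _ * _
    rw [pow_zero, one_mul]
  rw [shq_y, e3, e4, ← ph_add h hy hd]
  congr 1
  simp only [shq, Prod.mk_add_mk, zero_add]

theorem cj_ph (q : P4) (i : ℕ) : cj y (ph y d q) i = ph y d (shq^[i] q) := by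
  induction i with
  | zero => rw [cj_zero]; rfl
  | succ i ih => rw [← y_cj, ih, y_ph h hy hd, Function.iterate_succ_apply']

end grp

section main

variable {S : Type u} [Group S] {D : Subgroup S} (h : E16 D) {y : S} (hy : Five D y) {d : S} (hd : d ∈ D)
  {k : Type*} [Field k] {V : Type*} [AddCommGroup V] [Module k V] (ρ : S →* Module.End k V)

/-- the weight spaces -/
def VV (ρ : S →* Module.End k V) (y d : S) (p : P4) : Submodule k V :=
  Vp (ρ (cj y d 0)) (ρ (cj y d 1)) (ρ (cj y d 2)) (ρ (cj y d 3)) p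

theorem mem_VV {ρ : S →* Module.End k V} {p : P4} {v : V} : v ∈ VV ρ y d p ↔
    ρ (cj y d 0) v = ((-1 : k) ^ p.1.val) • v ∧ ρ (cj y d 1) v = ((-1 : k) ^ p.2.1.val) • v ∧
      ρ (cj y d 2) v = ((-1 : k) ^ p.2.2.1.val) • v ∧ ρ (cj y d 3) v = ((-1 : k) ^ p.2.2.2.val) • v := by
  rw [VV, Vp, Submodule.mem_inf, Submodule.mem_inf, Submodule.mem_inf, mem_Eg, mem_Eg, mem_Eg, mem_Eg, and_assoc,
    and_assoc]

theorem sg_add (a b : ZMod 2) : ((-1 : k) ^ (a + b).val) = (-1) ^ a.val * (-1) ^ b.val := by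
  fin_cases a <;> fin_cases b
  · change (-1 : k) ^ 0 = (-1) ^ 0 * (-1) ^ 0
    simp
  · change (-1 : k) ^ 1 = (-1) ^ 0 * (-1) ^ 1
    simp
  · change (-1 : k) ^ 1 = (-1) ^ 1 * (-1) ^ 0
    simp
  · change (-1 : k) ^ 0 = (-1) ^ 1 * (-1) ^ 1
    simp

theorem rho_pw {e : S} {v : V} {a : ZMod 2} (he : ρ e v = ((-1 : k) ^ a.val) • v) (b : ZMod 2) :
    ρ (pw e b) v = ((-1 : k) ^ (a * b).val) • v := by
  fin_cases b
  · change ρ (e ^ 0) v = ((-1 : k) ^ (a * 0).val) • v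
    rw [pow_zero, map_one, mul_zero, ZMod.val_zero, pow_zero, one_smul]
    rfl
  · change ρ (e ^ 1) v = ((-1 : k) ^ (a * 1).val) • v
    rw [pow_one, mul_one, he]

theorem rho_ph {p : P4} {v : V} (hv : v ∈ VV ρ y d p) (q : P4) : ρ (ph y d q) v = ((-1 : k) ^ (dot p q).val) • v := by
  obtain ⟨v0, v1, v2, v3⟩ := mem_VV.1 hv
  rw [ph, map_mul, map_mul, map_mul, Module.End.mul_apply, Module.End.mul_apply, Module.End.mul_apply, rho_pw ρ v3]
  simp only [map_smul, rho_pw ρ v2, rho_pw ρ v1, rho_pw ρ v0, smul_smul]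
  rw [dot, sg_add, sg_add, sg_add]
  congr 1
  ring

include h hy hd

/-- `ρ y` permutes the weight spaces -/
theorem rho_y {p : P4} {v : V} (hv : v ∈ VV ρ y d p) : ρ y v ∈ VV ρ y d (sh p) := by
  have key : ∀ q : P4, ρ (y * ph y d q * y⁻¹) (ρ y v) = ((-1 : k) ^ (dot p q).val) • ρ y v := by
    intro q
    rw [← Module.End.mul_apply, ← map_mul, inv_mul_cancel_right, map_mul, Module.End.mul_apply, rho_ph ρ hv, map_smul]
  have e : ∀ q r : P4, shq q = r → ρ (ph y d r) (ρ y v) = ((-1 : k) ^ (dot p q).val) • ρ y v := by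
    rintro q _ rfl
    rw [← y_ph h hy hd]
    exact key q
  have z0 : ph y d (1, 0, 0, 0) = cj y d 0 := by
    change _ ^ 1 * _ ^ 0 * _ ^ 0 * _ ^ 0 = _
    simp
  have z1 : ph y d (0, 1, 0, 0) = cj y d 1 := by
    change _ ^ 0 * _ ^ 1 * _ ^ 0 * _ ^ 0 = _
    simp
  have z2 : ph y d (0, 0, 1, 0) = cj y d 2 := by
    change _ ^ 0 * _ ^ 0 * _ ^ 1 * _ ^ 0 = _
    simp
  have z3 : ph y d (0, 0, 0, 1) = cj y d 3 := by
    change _ ^ 0 * _ ^ 0 * _ ^ 0 * _ ^ 1 = _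
    simp
  rw [mem_VV, ← z0, ← z1, ← z2, ← z3, e (1, 1, 1, 1) _ (by decide), e (1, 0, 0, 0) _ (by decide),
    e (0, 1, 0, 0) _ (by decide), e (0, 0, 1, 0) _ (by decide)]
  have d0 : dot p (1, 1, 1, 1) = (sh p).1 := by simp [dot, sh]
  have d1 : dot p (1, 0, 0, 0) = (sh p).2.1 := by simp [dot, sh]
  have d2 : dot p (0, 1, 0, 0) = (sh p).2.2.1 := by simp [dot, sh]
  have d3 : dot p (0, 0, 1, 0) = (sh p).2.2.2 := by simp [dot, sh]
  rw [d0, d1, d2, d3]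
  exact ⟨rfl, rfl, rfl, rfl⟩

variable [FiniteDimensional k V]

theorem finrank_sh (p : P4) : finrank k (VV ρ y d (sh p)) = finrank k (VV ρ y d p) := by
  have hle : ∀ p, finrank k (VV ρ y d p) ≤ finrank k (VV ρ y d (sh p)) := by
    intro p
    have hinj : Function.Injective (ρ y) := by
      intro u v huv
      have h1 := congrArg (ρ y⁻¹) huv
      rw [← Module.End.mul_apply, ← Module.End.mul_apply, ← map_mul, inv_mul_cancel, map_one] at h1
      exact h1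
    have h1 : (VV ρ y d p).map (ρ y) ≤ VV ρ y d (sh p) := by
      rintro _ ⟨v, hv, rfl⟩
      exact rho_y h hy hd ρ hv
    exact (LinearEquiv.finrank_eq (Submodule.equivMapOfInjective (ρ y) hinj _)).trans_le (Submodule.finrank_mono h1)
  apply le_antisymm _ (hle p)
  have h5 := dec_sh5 p
  calc finrank k (VV ρ y d (sh p)) ≤ finrank k (VV ρ y d (sh (sh p))) := hle _
    _ ≤ finrank k (VV ρ y d (sh (sh (sh p)))) := hle _
    _ ≤ finrank k (VV ρ y d (sh (sh (sh (sh p))))) := hle _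
    _ ≤ finrank k (VV ρ y d (sh (sh (sh (sh (sh p)))))) := hle _
    _ = finrank k (VV ρ y d p) := by
        have : sh (sh (sh (sh (sh p)))) = p := h5
        rw [this]

theorem finrank_cl (p : P4) : finrank k (VV ρ y d p) = finrank k (VV ρ y d (rp (cl p))) := by
  obtain ⟨i, -, hi⟩ := dec_rp p
  have key : ∀ (i : ℕ) (r : P4), finrank k (VV ρ y d (sh^[i] r)) = finrank k (VV ρ y d r) := by
    intro i
    induction i with
    | zero => intro r; rfl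
    | succ i ih =>
      intro r
      rw [Function.iterate_succ_apply, ih, finrank_sh h hy hd]
  conv_lhs => rw [← hi]
  exact key i _

theorem finrank_U (h2 : (2 : k) ≠ 0) (U : Submodule k V) (hU : ∀ e ∈ D, ∀ u ∈ U, ρ e u ∈ U) :
    finrank k U = ∑ p : P4, finrank k ↥(U ⊓ VV ρ y d p) := by
  have hc := comm16 h
  have hm := fun n => cj_mem hy hd n
  have hsq : ∀ n, ρ (cj y d n) * ρ (cj y d n) = 1 := fun n => by rw [← map_mul, h.inv _ (hm n), map_one]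
  have hcm : ∀ n m, ρ (cj y d n) * ρ (cj y d m) = ρ (cj y d m) * ρ (cj y d n) := fun n m => by
    rw [← map_mul, ← map_mul, hc _ (hm n) _ (hm m)]
  exact split4 h2 (hsq 0) (hsq 1) (hsq 2) (hsq 3) (hcm 0 1) (hcm 0 2) (hcm 0 3) (hcm 1 2) (hcm 1 3) (hcm 2 3) U
    (hU _ (hm 0)) (hU _ (hm 1)) (hU _ (hm 2)) (hU _ (hm 3))

theorem finrank_top' (h2 : (2 : k) ≠ 0) : finrank k V = finrank k (VV ρ y d 0) +
    5 * (finrank k (VV ρ y d (rp 1)) + finrank k (VV ρ y d (rp 2)) + finrank k (VV ρ y d (rp 3))) := by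
  have h1 := finrank_U h hy hd ρ h2 ⊤ (fun _ _ _ _ => Submodule.mem_top)
  rw [finrank_top] at h1
  rw [h1]
  have h3 := sum_all (fun c => finrank k (VV ρ y d (rp c)))
  refine Eq.trans (Finset.sum_congr rfl fun p _ => ?_) h3
  rw [top_inf_eq]
  exact finrank_cl h hy hd ρ p

theorem finrank_neg (h2 : (2 : k) ≠ 0) {q : P4} (hq : q ≠ 0) : finrank k ↥(LinearMap.ker (ρ (ph y d q) + 1)) =
    2 * (finrank k (VV ρ y d (rp 1)) + finrank k (VV ρ y d (rp 2)) + finrank k (VV ρ y d (rp 3))) +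
      2 * finrank k (VV ρ y d (rp (tq q))) := by
  have hmk : ∀ v : V, v ∈ LinearMap.ker (ρ (ph y d q) + 1) ↔ ρ (ph y d q) v = -v := by
    intro v
    rw [LinearMap.mem_ker, LinearMap.add_apply, Module.End.one_apply, add_eq_zero_iff_eq_neg]
  have hc := comm16 h
  have h1 := finrank_U h hy hd ρ h2 (LinearMap.ker (ρ (ph y d q) + 1)) (by
    intro e he u hu
    rw [hmk] at hu ⊢
    rw [← Module.End.mul_apply, ← map_mul, hc _ (ph_mem hy hd q) _ he, map_mul, Module.End.mul_apply, hu, map_neg])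
  rw [h1]
  have h3 := sum_TT (fun c => finrank k (VV ρ y d (rp c))) hq
  refine Eq.trans ?_ h3
  rw [TT, Finset.sum_filter]
  refine Finset.sum_congr rfl fun p _ => ?_
  by_cases hp : dot p q = 1
  · rw [if_pos hp, ← finrank_cl h hy hd ρ p]
    have : LinearMap.ker (ρ (ph y d q) + 1) ⊓ VV ρ y d p = VV ρ y d p := by
      apply inf_eq_right.2
      intro v hv
      rw [hmk, rho_ph ρ hv, hp, ZMod.val_one, pow_one, neg_one_smul]
    rw [this]
  · rw [if_neg hp]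
    have hp0 : dot p q = 0 := by
      generalize dot p q = a at *
      fin_cases a
      · rfl
      · exact absurd rfl hp
    have : LinearMap.ker (ρ (ph y d q) + 1) ⊓ VV ρ y d p = ⊥ := by
      rw [eq_bot_iff]
      rintro v ⟨hv1, hv2⟩
      have h4 := (hmk v).1 hv1
      rw [rho_ph ρ hv2, hp0, ZMod.val_zero, pow_zero, one_smul] at h4
      have h5 : (2 : k) • v = 0 := by rw [two_smul]; nth_rewrite 2 [h4]; exact add_neg_cancel v
      exact (smul_eq_zero.1 h5).resolve_left h2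
    rw [this, finrank_bot]

omit [FiniteDimensional k V] in
/-- the weight spaces in terms of characters of `D` -/
theorem VV_eq (hd1 : d ≠ 1) (l : D →* ℤˣ) : ∃ p : P4, (l ≠ 1 → p ≠ 0) ∧ (l = 1 → p = 0) ∧
    (⨅ e : D, LinearMap.ker (ρ (e : S) - algebraMap k _ (((l e : ℤ)) : k))) = VV ρ y d p := by
  have hex : ∀ u : ℤˣ, ∃ a : ZMod 2, (u = 1 → a = 0) ∧ (((u : ℤ) : k) = (-1) ^ a.val) ∧ (a = 0 → u = 1) := by
    intro u
    rcases Int.units_eq_one_or u with rfl | rfl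
    · exact ⟨0, fun _ => rfl, by simp, fun _ => rfl⟩
    · exact ⟨1, fun h => absurd h (by decide), by simp [ZMod.val_one], fun h => absurd h (by decide)⟩
  have hm := fun n => cj_mem hy hd n
  obtain ⟨a0, x0, y0, z0⟩ := hex (l ⟨_, hm 0⟩)
  obtain ⟨a1, x1, y1, z1⟩ := hex (l ⟨_, hm 1⟩)
  obtain ⟨a2, x2, y2, z2⟩ := hex (l ⟨_, hm 2⟩)
  obtain ⟨a3, x3, y3, z3⟩ := hex (l ⟨_, hm 3⟩)
  have hmk : ∀ (e : D) (v : V), v ∈ LinearMap.ker (ρ (e : S) - algebraMap k _ (((l e : ℤ)) : k)) ↔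
      ρ (e : S) v = (((l e : ℤ)) : k) • v := by
    intro e v
    rw [LinearMap.mem_ker, LinearMap.sub_apply, sub_eq_zero]
    rfl
  have hlpw : ∀ (n : ℕ) (a b : ZMod 2), (((l ⟨_, hm n⟩ : ℤˣ) : ℤ) : k) = (-1) ^ a.val →
      (((l ⟨_, pw_mem (hm n) b⟩ : ℤˣ) : ℤ) : k) = (-1) ^ (a * b).val := by
    intro n a b hab
    fin_cases b
    · have : (⟨_, pw_mem (hm n) 0⟩ : D) = 1 := Subtype.ext (pow_zero _)
      change (((l ⟨_, pw_mem (hm n) 0⟩ : ℤˣ) : ℤ) : k) = (-1) ^ (a * 0).val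
      rw [this, map_one, mul_zero]
      simp
    · have : (⟨_, pw_mem (hm n) 1⟩ : D) = ⟨_, hm n⟩ := Subtype.ext (pow_one _)
      change (((l ⟨_, pw_mem (hm n) 1⟩ : ℤˣ) : ℤ) : k) = (-1) ^ (a * 1).val
      rw [this, mul_one, hab]
  refine ⟨(a0, a1, a2, a3), ?_, ?_, ?_⟩
  · intro hl h0
    apply hl
    have w0 : a0 = 0 := congrArg Prod.fst h0
    have w1 : a1 = 0 := congrArg (fun p : P4 => p.2.1) h0
    have w2 : a2 = 0 := congrArg (fun p : P4 => p.2.2.1) h0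
    have w3 : a3 = 0 := congrArg (fun p : P4 => p.2.2.2) h0
    have lp : ∀ (n : ℕ) (b : ZMod 2), l ⟨_, hm n⟩ = 1 → l ⟨_, pw_mem (hm n) b⟩ = 1 := by
      intro n b hn
      have : (⟨_, pw_mem (hm n) b⟩ : D) = ⟨_, hm n⟩ ^ b.val := Subtype.ext rfl
      rw [this, map_pow, hn, one_pow]
    ext ⟨e, he⟩
    obtain ⟨q, rfl⟩ := ph_surj h hy hd hd1 he
    have : (⟨ph y d q, he⟩ : D) = ⟨_, pw_mem (hm 0) q.1⟩ * ⟨_, pw_mem (hm 1) q.2.1⟩ * ⟨_, pw_mem (hm 2) q.2.2.1⟩ *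
      ⟨_, pw_mem (hm 3) q.2.2.2⟩ := Subtype.ext rfl
    rw [this, map_mul, map_mul, map_mul, lp 0 _ (z0 w0), lp 1 _ (z1 w1), lp 2 _ (z2 w2), lp 3 _ (z3 w3)]
    rfl
  · rintro rfl
    rw [x0 rfl, x1 rfl, x2 rfl, x3 rfl]
    rfl
  · apply le_antisymm
    · intro v hv
      rw [Submodule.mem_iInf] at hv
      rw [mem_VV]
      exact ⟨((hmk ⟨_, hm 0⟩ v).1 (hv _)).trans (by rw [y0]), ((hmk ⟨_, hm 1⟩ v).1 (hv _)).trans (by rw [y1]),
        ((hmk ⟨_, hm 2⟩ v).1 (hv _)).trans (by rw [y2]), ((hmk ⟨_, hm 3⟩ v).1 (hv _)).trans (by rw [y3])⟩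
    · intro v hv
      rw [Submodule.mem_iInf]
      rintro ⟨e, he⟩
      rw [hmk]
      obtain ⟨q, rfl⟩ := ph_surj h hy hd hd1 he
      have h3 := rho_ph ρ hv q
      have : (⟨ph y d q, he⟩ : D) = ⟨_, pw_mem (hm 0) q.1⟩ * ⟨_, pw_mem (hm 1) q.2.1⟩ * ⟨_, pw_mem (hm 2) q.2.2.1⟩ *
        ⟨_, pw_mem (hm 3) q.2.2.2⟩ := Subtype.ext rfl
      change ρ (ph y d q) v = _
      rw [h3, this, map_mul, map_mul, map_mul]
      push_cast
      rw [hlpw 0 a0 _ y0, hlpw 1 a1 _ y1, hlpw 2 a2 _ y2, hlpw 3 a3 _ y3, dot, sg_add, sg_add, sg_add]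

end main

/-- **The trace formula.** -/
theorem TR {S : Type u} [Group S] [Finite S] {D : Subgroup S} (h : E16 D) {y : S} (hy : Five D y)
    {k : Type*} [Field k] (h2 : (2 : k) ≠ 0) {V : Type*} [AddCommGroup V] [Module k V] [FiniteDimensional k V]
    (ρ : S →* Module.End k V) {d1 d2 d3 : S} (h1 : d1 ∈ D) (h2' : d2 ∈ D) (h3 : d3 ∈ D) (n1 : d1 ≠ 1) (n2 : d2 ≠ 1)
    (n3 : d3 ≠ 1) (h12 : ∀ i : ℕ, d2 ≠ y ^ i * d1 * (y ^ i)⁻¹) (h13 : ∀ i : ℕ, d3 ≠ y ^ i * d1 * (y ^ i)⁻¹)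
    (h23 : ∀ i : ℕ, d3 ≠ y ^ i * d2 * (y ^ i)⁻¹) :
    ∃ A a1 a2 a3 : ℕ, Module.finrank k ↥(LinearMap.ker (ρ d1 + 1)) = 2 * (A + a1) ∧
      Module.finrank k ↥(LinearMap.ker (ρ d2 + 1)) = 2 * (A + a2) ∧
      Module.finrank k ↥(LinearMap.ker (ρ d3 + 1)) = 2 * (A + a3) ∧ A = a1 + a2 + a3 ∧
      Module.finrank k V = Module.finrank k ↥(⨅ d ∈ D, LinearMap.ker (ρ d - 1)) + 5 * A ∧
      (∀ l : D →* ℤˣ, l ≠ 1 → ∃ a ∈ ({a1, a2, a3} : Set ℕ),
        Module.finrank k ↥(⨅ d : D, LinearMap.ker (ρ (d : S) - algebraMap k _ (((l d : ℤ)) : k))) = a) := by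
  set w : Fin 4 → ℕ := fun c => finrank k (VV ρ y d1 (rp c)) with hw
  obtain ⟨q2, hq2⟩ := ph_surj h hy h1 n1 h2'
  obtain ⟨q3, hq3⟩ := ph_surj h hy h1 n1 h3
  have hb : ph y d1 b1 = d1 := by
    change cj y d1 0 ^ 1 * _ ^ 0 * _ ^ 0 * _ ^ 0 = d1
    rw [cj_zero]
    simp
  have hq20 : q2 ≠ 0 := by
    rintro rfl
    rw [ph_zero] at hq2
    exact n2 hq2.symm
  have hq30 : q3 ≠ 0 := by
    rintro rfl
    rw [ph_zero] at hq3
    exact n3 hq3.symm
  have hb0 : b1 ≠ 0 := by decide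
  have t2 : tq q2 ≠ 1 := by
    intro ht
    obtain ⟨i, -, hi⟩ := dec_o b1 q2 hb0 (dec_t1.trans ht.symm)
    apply h12 i
    have := cj_ph h hy h1 b1 i
    rw [hb, hi, hq2] at this
    exact this.symm
  have t3 : tq q3 ≠ 1 := by
    intro ht
    obtain ⟨i, -, hi⟩ := dec_o b1 q3 hb0 (dec_t1.trans ht.symm)
    apply h13 i
    have := cj_ph h hy h1 b1 i
    rw [hb, hi, hq3] at this
    exact this.symm
  have t23 : tq q2 ≠ tq q3 := by
    intro ht
    obtain ⟨i, -, hi⟩ := dec_o q2 q3 hq20 ht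
    apply h23 i
    have := cj_ph h hy h1 q2 i
    rw [hq2, hi, hq3] at this
    exact this.symm
  have t20 := dec_t0 q2 hq20
  have t30 := dec_t0 q3 hq30
  have hcase : (tq q2 = 2 ∧ tq q3 = 3) ∨ (tq q2 = 3 ∧ tq q3 = 2) := by
    generalize tq q2 = u at *
    generalize tq q3 = v at *
    revert u v
    decide
  have f1 := finrank_neg h hy h1 ρ h2 hb0
  have f2 := finrank_neg h hy h1 ρ h2 hq20
  have f3 := finrank_neg h hy h1 ρ h2 hq30
  rw [hb, dec_t1] at f1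
  rw [hq2] at f2
  rw [hq3] at f3
  have f4 := finrank_top' h hy h1 ρ h2
  have hset : ∀ c : Fin 4, c ≠ 0 → w c ∈ ({w 1, w (tq q2), w (tq q3)} : Set ℕ) := by
    intro c hc
    rcases hcase with ⟨e1, e2⟩ | ⟨e1, e2⟩ <;> rw [e1, e2] <;> fin_cases c <;> simp at hc ⊢
  refine ⟨w 1 + w 2 + w 3, w 1, w (tq q2), w (tq q3), ?_, ?_, ?_, ?_, ?_, ?_⟩
  · exact f1.trans (mul_add _ _ _).symm
  · exact f2.trans (mul_add _ _ _).symm
  · exact f3.trans (mul_add _ _ _).symm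
  · rcases hcase with ⟨e1, e2⟩ | ⟨e1, e2⟩
    · rw [e1, e2]
    · rw [e1, e2]; ring
  · rw [f4]
    obtain ⟨p, -, hp, he⟩ := VV_eq h hy h1 ρ n1 (1 : D →* ℤˣ)
    rw [hp rfl] at he
    have : (⨅ d ∈ D, LinearMap.ker (ρ d - 1)) = VV ρ y d1 0 := by
      rw [← he, iInf_subtype']
      refine iInf_congr fun e => ?_
      simp
    rw [this]
  · intro l hl
    obtain ⟨p, hp, -, he⟩ := VV_eq h hy h1 ρ n1 l
    refine ⟨w (cl p), hset _ (dec_cl p (hp hl)), ?_⟩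
    rw [he]
    exact finrank_cl h hy h1 ρ p

end Cfsg.Agent.H484.KS
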